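import Mathlib

/-! helper6: a short complex in an abelian category is short exact as soon as its images under
two exact functors which jointly detect zero objects are short exact; sheaves of abelian groups all
of whose sections vanish are zero objects. -/

set_option autoImplicit false
set_option linter.unusedSectionVars false
set_option linter.unusedVariables false
set_option linter.unusedSimpArgs false
set_option linter.style.haveILetI false
set_option maxHeartbeats 800000
set_option synthInstance.maxHeartbeats 400000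

universe v₁ v₂ v₃ u₁ u₂ u₃ w v u
open CategoryTheory Limits Opposite

namespace Groth.Agent.Lib.Helper6.Recoll

section Cat

variable {𝒜 : Type u₁} [Category.{v₁} 𝒜] [Abelian 𝒜] {ℬ₁ : Type u₂} [Category.{v₂} ℬ₁] [Abelian ℬ₁]
  {ℬ₂ : Type u₃} [Category.{v₃} ℬ₂] [Abelian ℬ₂]
  (Φ₁ : 𝒜 ⥤ ℬ₁) (Φ₂ : 𝒜 ⥤ ℬ₂) [Φ₁.Additive] [Φ₂.Additive]
  [PreservesFiniteLimits Φ₁] [PreservesFiniteColimits Φ₁]
  [PreservesFiniteLimits Φ₂] [PreservesFiniteColimits Φ₂]

theorem shortExact_of_jointly
    (JC : ∀ M : 𝒜, IsZero (Φ₁.obj M) → IsZero (Φ₂.obj M) → IsZero M)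
    (S : ShortComplex 𝒜) (h₁ : (S.map Φ₁).ShortExact) (h₂ : (S.map Φ₂).ShortExact) :
    S.ShortExact := by
  have hex : S.Exact := by
    rw [S.exact_iff_isZero_homology]
    apply JC
    · exact ((S.map Φ₁).exact_iff_isZero_homology.mp h₁.exact).of_iso
        (S.mapHomologyIso Φ₁).symm
    · exact ((S.map Φ₂).exact_iff_isZero_homology.mp h₂.exact).of_iso
        (S.mapHomologyIso Φ₂).symm
  have hmono : Mono S.f := by
    apply Preadditive.mono_of_isZero_kernel
    apply JC
    · haveI : Mono (Φ₁.map S.f) := h₁.mono_f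
      exact (isZero_kernel_of_mono (Φ₁.map S.f)).of_iso (PreservesKernel.iso Φ₁ S.f)
    · haveI : Mono (Φ₂.map S.f) := h₂.mono_f
      exact (isZero_kernel_of_mono (Φ₂.map S.f)).of_iso (PreservesKernel.iso Φ₂ S.f)
  have hepi : Epi S.g := by
    apply Preadditive.epi_of_isZero_cokernel
    apply JC
    · haveI : Epi (Φ₁.map S.g) := h₁.epi_g
      exact (isZero_cokernel_of_epi (Φ₁.map S.g)).of_iso (PreservesCokernel.iso Φ₁ S.g)
    · haveI : Epi (Φ₂.map S.g) := h₂.epi_g
      exact (isZero_cokernel_of_epi (Φ₂.map S.g)).of_iso (PreservesCokernel.iso Φ₂ S.g)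
  exact { exact := hex, mono_f := hmono, epi_g := hepi }

/-- a short complex `X₁ ⟶ X₂ ⟶ X₃` with the first map an isomorphism and `X₃` zero is short
exact -/
theorem shortExact_of_isIso_f_of_isZero (S : ShortComplex 𝒜) [IsIso S.f] (h : IsZero S.X₃) :
    S.ShortExact := by
  have hg : S.g = 0 := h.eq_of_tgt _ _
  exact { exact := (S.exact_iff_epi hg).mpr inferInstance
          mono_f := inferInstance
          epi_g := h.epi S.g }

/-- a short complex `X₁ ⟶ X₂ ⟶ X₃` with the second map an isomorphism and `X₁` zero is short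
exact -/
theorem shortExact_of_isIso_g_of_isZero (S : ShortComplex 𝒜) [IsIso S.g] (h : IsZero S.X₁) :
    S.ShortExact := by
  have hf : S.f = 0 := h.eq_of_src _ _
  exact { exact := (S.exact_iff_mono hf).mpr inferInstance
          mono_f := h.mono S.f
          epi_g := inferInstance }

end Cat

section Sheaf

variable {C : Type u} [Category.{v} C] (J : GrothendieckTopology C)

theorem isZero_of_subsingleton_sections (T : Sheaf J AddCommGrpCat.{w})
    (h : ∀ W : C, Subsingleton (T.obj.obj (op W))) : IsZero T := by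
  rw [IsZero.iff_id_eq_zero]
  apply Sheaf.hom_ext
  apply NatTrans.ext
  funext W
  haveI := h W.unop
  apply ConcreteCategory.hom_ext
  intro x
  exact Subsingleton.elim _ _

theorem subsingleton_sections_of_isZero (T : Sheaf J AddCommGrpCat.{w}) (hT : IsZero T) (W : C) :
    Subsingleton (T.obj.obj (op W)) := by
  have h1 : IsZero (((sheafToPresheaf J AddCommGrpCat.{w}) ⋙
      (evaluation Cᵒᵖ AddCommGrpCat.{w}).obj (op W)).obj T) :=
    Functor.map_isZero _ hT
  exact AddCommGrpCat.subsingleton_of_isZero h1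

end Sheaf

end Groth.Agent.Lib.Helper6.Recoll
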