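import Mathlib
import Groth.Prelude.Def_ProEtS
import Groth.Prelude.Def_PBC
import Groth.Agent.Lib.Helper6.Recoll.RC1
import Groth.Agent.Lib.Helper6.ClImm.CI4
import Groth.Agent.Lib.Helper9.FE.ProEtE1
import Groth.Agent.Lib.Helper9.FE.ProEtW11
import Groth.Agent.Lib.Helper5.Misc.LanFlat

/-! helper6: the functors `j⁻¹` (restriction to a quasi-compact open) and `i⁻¹` (inverse image to
the closed complement) on abelian pro-étale sheaves jointly detect zero objects. -/

set_option autoImplicit false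
set_option linter.unusedSectionVars false
set_option linter.unusedVariables false
set_option linter.unusedSimpArgs false
set_option linter.style.haveILetI false
set_option maxHeartbeats 800000
set_option synthInstance.maxHeartbeats 400000
set_option backward.isDefEq.respectTransparency false

universe u
open CategoryTheory Limits Opposite AlgebraicGeometry

namespace Groth.Agent.Lib.Helper6.Recoll

open H9FE.ProEtQc H9FE.ProEtW

/-! ### a covering criterion for finite families -/

section Cover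

variable {X : Scheme.{u}}

lemma ofArrows_mem_finite {V : X.ProEt} [QuasiSeparatedSpace V.left] {ι : Type} [Finite ι]
    (W : ι → X.ProEt) (g : ∀ i, W i ⟶ V) (hW : ∀ i, CompactSpace (W i).left)
    (h : ∀ v : V.left, ∃ i, v ∈ Set.range (g i).left) :
    Sieve.ofArrows W g ∈ Scheme.ProEt.topology X V := by
  refine Precoverage.generate_mem_toGrothendieck ?_
  change (Presieve.ofArrows W g).map (toSch X) ∈ Scheme.propQCPrecoverage @WeaklyEtale V.left
  rw [Presieve.map_ofArrows]
  have hmem : Presieve.ofArrows (fun i => (toSch X).obj (W i)) (fun i => (toSch X).map (g i)) ∈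
      Scheme.precoverage @WeaklyEtale V.left := by
    rw [Scheme.ofArrows_mem_precoverage_iff]
    exact ⟨h, fun i => (inferInstance : WeaklyEtale (g i).left)⟩
  let 𝒰 : Scheme.Cover (Scheme.precoverage @WeaklyEtale) V.left :=
    { I₀ := ι
      X := fun i => (toSch X).obj (W i)
      f := fun i => (toSch X).map (g i)
      mem₀ := hmem }
  haveI : ∀ i, QuasiCompact (𝒰.f i) := fun i => by
    haveI : CompactSpace ↥((toSch X).obj (W i)) := hW i
    haveI : QuasiSeparatedSpace ↥((toSch X).obj V) := ‹QuasiSeparatedSpace V.left›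
    change QuasiCompact ((toSch X).map (g i))
    infer_instance
  haveI : Finite 𝒰.I₀ := (inferInstance : Finite ι)
  have hqc : QuasiCompactCover 𝒰.toPreZeroHypercover := QuasiCompactCover.of_finite (𝒰 := 𝒰)
  exact ⟨Scheme.presieve₀_mem_qcPrecoverage_iff.2 hqc, hmem⟩

/-- a family indexed by `Option (Fin n)` -/
noncomputable def optObj (T0 : X.ProEt) {n : ℕ} (Tk : Fin n → X.ProEt) :
    Option (Fin n) → X.ProEt
  | none => T0
  | some k => Tk k

noncomputable def optHom {V : X.ProEt} (T0 : X.ProEt) (g0 : T0 ⟶ V) {n : ℕ}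
    (Tk : Fin n → X.ProEt) (gk : ∀ k, Tk k ⟶ V) : ∀ o, optObj T0 Tk o ⟶ V
  | none => g0
  | some k => gk k

lemma optCover_mem {V : X.ProEt} [QuasiSeparatedSpace V.left] (T0 : X.ProEt) (g0 : T0 ⟶ V)
    {n : ℕ} (Tk : Fin n → X.ProEt) (gk : ∀ k, Tk k ⟶ V) (h0 : CompactSpace T0.left)
    (hk : ∀ k, CompactSpace (Tk k).left)
    (hs : ∀ v : V.left, v ∈ Set.range g0.left ∨ ∃ k, v ∈ Set.range (gk k).left) :
    Sieve.ofArrows (optObj T0 Tk) (optHom T0 g0 Tk gk) ∈ Scheme.ProEt.topology X V := by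
  refine ofArrows_mem_finite _ _ (fun o => ?_) (fun v => ?_)
  · cases o with
    | none => exact h0
    | some k => exact hk k
  · rcases hs v with h | ⟨k, h⟩
    · exact ⟨none, h⟩
    · exact ⟨some k, h⟩

end Cover

section Main

variable {X Z U : Scheme.{u}} (i : Z ⟶ X) (j : U ⟶ X) [WeaklyEtale j]

/-! ### `j⁻¹ i_* = 0` and `i⁻¹ j_! = 0` -/

lemma isEmpty_bc_comp (hd : Disjoint (Set.range j.base) (Set.range i.base)) (V' : U.ProEt) :
    IsEmpty ((ProEtS.bcP i).obj ((ProEtS.compP j).obj V')).left := by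
  refine ⟨fun z => ?_⟩
  have hcond : pullback.fst (V'.hom ≫ j) i ≫ (V'.hom ≫ j) = pullback.snd (V'.hom ≫ j) i ≫ i :=
    pullback.condition
  have h1 : (pullback.fst (V'.hom ≫ j) i ≫ (V'.hom ≫ j)) z =
      (pullback.snd (V'.hom ≫ j) i ≫ i) z := by rw [hcond]
  rw [← Category.assoc, Scheme.Hom.comp_apply, Scheme.Hom.comp_apply] at h1
  exact Set.disjoint_left.mp hd ⟨_, rfl⟩ ⟨_, h1.symm⟩

lemma subsingleton_of_isEmpty (H : ProEtS.AbP Z) (W : Z.ProEt) [IsEmpty W.left] :
    Subsingleton (H.obj.obj (op W)) := by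
  have hbot := Scheme.ProEt.bot_mem_topology W
  have hsh : Presieve.IsSheaf (Scheme.ProEt.topology Z)
      (H.obj ⋙ forget AddCommGrpCat.{u + 1}) :=
    (isSheaf_iff_isSheaf_of_type _ _).mp
      ((Presheaf.isSheaf_iff_isSheaf_forget _ _ (forget AddCommGrpCat.{u + 1})).mp H.property)
  refine ⟨fun a b => ?_⟩
  exact (hsh _ hbot).isSeparatedFor.ext (fun Y f hf => hf.elim)

theorem isZero_restr_push [ProEtS.JPCont j] [ProEtS.PCont i]
    (hd : Disjoint (Set.range j.base) (Set.range i.base)) (H : ProEtS.AbP Z) :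
    IsZero ((ProEtS.restrP j).obj ((ProEtS.pushP i).obj H)) := by
  apply isZero_of_subsingleton_sections
  intro V'
  haveI := isEmpty_bc_comp i j hd V'
  exact subsingleton_of_isEmpty H ((ProEtS.bcP i).obj ((ProEtS.compP j).obj V'))

theorem isZero_pull_extZero [ProEtS.JPCont j] [ProEtS.PCont i]
    (hd : Disjoint (Set.range j.base) (Set.range i.base)) (G : ProEtS.AbP U) :
    IsZero ((ProEtS.pullP i).obj ((ProEtS.extZeroP j).obj G)) := by
  rw [IsZero.iff_id_eq_zero]
  apply ((ProEtS.pullPushAdjP i).homEquiv _ _).injective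
  apply ((ProEtS.extZeroPAdj j).homEquiv _ _).injective
  exact (isZero_restr_push i j hd _).eq_of_tgt _ _

/-! ### exactness of `j⁻¹` and `i⁻¹` -/

instance additive_restrP [ProEtS.JPCont j] : (ProEtS.restrP j).Additive where

theorem preservesFiniteLimits_restrP [ProEtS.JPCont j] :
    PreservesFiniteLimits (ProEtS.restrP j) := by
  haveI : PreservesLimitsOfSize.{u + 1, u + 1} (ProEtS.restrP j) :=
    (ProEtS.extZeroPAdj j).rightAdjoint_preservesLimits
  exact PreservesLimitsOfSize.preservesFiniteLimits _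

theorem preservesFiniteColimits_restrP [ProEtS.JPCont j] :
    PreservesFiniteColimits (ProEtS.restrP j) := by
  haveI : PreservesColimitsOfSize.{u + 1, u + 1} (ProEtS.restrP j) :=
    (H9FE.ProEtW.restrRanAdj j).leftAdjoint_preservesColimits
  exact PreservesColimitsOfSize.preservesFiniteColimits _

theorem additive_pullP [ProEtS.PCont i] : (ProEtS.pullP i).Additive :=
  (ProEtS.pullPushAdjP i).left_adjoint_additive

theorem preservesFiniteColimits_pullP [ProEtS.PCont i] :
    PreservesFiniteColimits (ProEtS.pullP i) := by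
  haveI : PreservesColimitsOfSize.{u + 1, u + 1} (ProEtS.pullP i) :=
    (ProEtS.pullPushAdjP i).leftAdjoint_preservesColimits
  exact PreservesColimitsOfSize.preservesFiniteColimits _

theorem preservesFiniteLimits_pullP [ProEtS.PCont i] :
    PreservesFiniteLimits (ProEtS.pullP i) := by
  haveI := Groth.Agent.S0730.preservesFiniteLimits_bcP i
  haveI : RepresentablyFlat (ProEtS.bcP i) := flat_of_preservesFiniteLimits _
  haveI : AB5OfSize.{u, u + 1} AddCommGrpCat.{u + 1} :=
    AB5OfSize_shrink.{u, u + 1, u + 1, u + 1} AddCommGrpCat.{u + 1}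
  exact Groth.Agent.Lib.Helper5.Misc.LanFlat.preservesFiniteLimits_sheafPullback (ProEtS.bcP i)
    AddCommGrpCat.{u + 1} _ _

/-! ### sections of sheaves with vanishing inverse image -/

theorem exists_cover_vanish [ProEtS.PCont i] (M : ProEtS.AbP X)
    (hM : IsZero ((ProEtS.pullP i).obj M)) (V : X.ProEt) (s : M.obj.obj (op V)) :
    ∃ S : Sieve ((ProEtS.bcP i).obj V), S ∈ Scheme.ProEt.topology Z ((ProEtS.bcP i).obj V) ∧
      ∀ {W : Z.ProEt} (c : W ⟶ (ProEtS.bcP i).obj V), S c →
        ∃ (V' : X.ProEt) (b : W ⟶ (ProEtS.bcP i).obj V') (a : V' ⟶ V),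
          b ≫ (ProEtS.bcP i).map a = c ∧ M.obj.map a.op s = 0 := by
  haveI := Groth.Agent.S0730.preservesFiniteLimits_bcP i
  haveI : RepresentablyFlat (ProEtS.bcP i) := flat_of_preservesFiniteLimits _
  have e : (ProEtS.pullP i).obj M ≅
      (presheafToSheaf (Scheme.ProEt.topology Z) AddCommGrpCat.{u + 1}).obj
        ((ProEtS.bcP i).op.lan.obj M.obj) :=
    (Functor.sheafPullbackConstruction.sheafPullbackIso (ProEtS.bcP i) AddCommGrpCat.{u + 1}
      (Scheme.ProEt.topology X) (Scheme.ProEt.topology Z)).app M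
  have hz : IsZero ((presheafToSheaf (Scheme.ProEt.topology Z) AddCommGrpCat.{u + 1}).obj
      ((ProEtS.bcP i).op.lan.obj M.obj)) := hM.of_iso e.symm
  obtain ⟨t, ht⟩ : ∃ t, t = H9FE.ProEtE.elt (ProEtS.bcP i) M.obj (𝟙 ((ProEtS.bcP i).obj V)) s :=
    ⟨_, rfl⟩
  haveI hsub := subsingleton_sections_of_isZero _ _ hz ((ProEtS.bcP i).obj V)
  have heq : (toSheafify (Scheme.ProEt.topology Z) ((ProEtS.bcP i).op.lan.obj M.obj)).app
      (op ((ProEtS.bcP i).obj V)) t =
      (toSheafify (Scheme.ProEt.topology Z) ((ProEtS.bcP i).op.lan.obj M.obj)).app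
        (op ((ProEtS.bcP i).obj V)) 0 := Subsingleton.elim _ _
  have hmem := Presheaf.equalizerSieve_mem (Scheme.ProEt.topology Z)
    (toSheafify (Scheme.ProEt.topology Z) ((ProEtS.bcP i).op.lan.obj M.obj))
    (X := op ((ProEtS.bcP i).obj V)) t 0 heq
  refine ⟨Presheaf.equalizerSieve t 0, hmem, fun {W} c hc => ?_⟩
  have h1 : ((ProEtS.bcP i).op.lan.obj M.obj).map c.op t =
      ((ProEtS.bcP i).op.lan.obj M.obj).map c.op 0 := hc
  rw [ht, H9FE.ProEtE.map_elt, Category.comp_id, map_zero] at h1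
  have h0 : H9FE.ProEtE.elt (ProEtS.bcP i) M.obj c (0 : M.obj.obj (op V)) = 0 := by
    unfold H9FE.ProEtE.elt
    rw [map_zero, map_zero]
  obtain ⟨V', b, a, hba, hs⟩ :=
    H9FE.ProEtE.exists_refinement_same (ProEtS.bcP i) M.obj c s 0 (h1.trans h0.symm)
  exact ⟨V', b, a, hba, hs.trans (map_zero _)⟩

end Main

end Groth.Agent.Lib.Helper6.Recoll
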