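import Mathlib
import Groth.Prelude.Def_ProEtS
import Groth.Prelude.Def_PBC
import Groth.Agent.Lib.Helper6.Recoll.RC2

/-! helper6: for a closed immersion `i : Z ⟶ X` with quasi-compact open complement `j : U ⟶ X`,
an abelian pro-étale sheaf with `j⁻¹ M = 0` and `i⁻¹ M = 0` vanishes, and the sequence
`0 ⟶ j_! j⁻¹ F ⟶ F ⟶ i_* i⁻¹ F ⟶ 0` is short exact (S0726). -/

set_option autoImplicit false
set_option linter.unusedSectionVars false
set_option linter.unusedVariables false
set_option linter.unusedSimpArgs false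
set_option linter.style.haveILetI false
set_option maxHeartbeats 800000
set_option synthInstance.maxHeartbeats 400000
set_option backward.isDefEq.respectTransparency false

universe u
open CategoryTheory Limits Opposite AlgebraicGeometry

namespace Groth.Agent.Lib.Helper6.Recoll

open H9FE.ProEtQc H9FE.ProEtW

section Main

variable {X Z U : Scheme.{u}} (i : Z ⟶ X) [IsClosedImmersion i] (j : U ⟶ X) [WeaklyEtale j]
  [QuasiCompact j]

theorem sections_zero_of_affine [ProEtS.JPCont j] [ProEtS.PCont i]
    (hc : Set.range j.base = (Set.range i.base)ᶜ)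
    (M : ProEtS.AbP X) (h1 : IsZero ((ProEtS.restrP j).obj M))
    (h2 : IsZero ((ProEtS.pullP i).obj M))
    (V : X.ProEt) [IsAffine V.left] (s : M.obj.obj (op V)) : s = 0 := by
  haveI haff0 : IsAffine ((𝟭 Scheme).obj V.left) := ‹IsAffine V.left›
  obtain ⟨S, hS, hSv⟩ := exists_cover_vanish i M h2 V s
  haveI haffP : IsAffine (pullback V.hom i) := isAffine_of_isAffineHom (pullback.fst V.hom i)
  haveI hcP : CompactSpace ((ProEtS.bcP i).obj V).left :=
    (inferInstance : CompactSpace ↥(pullback V.hom i))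
  obtain ⟨n, Wf, g, haff, hSg, hcov⟩ :=
    exists_finite_affine_refinement ((ProEtS.bcP i).obj V) S hS
  have H : ∀ k : Fin n, ∃ (V' : X.ProEt) (b : Wf k ⟶ (ProEtS.bcP i).obj V') (a : V' ⟶ V),
      b ≫ (ProEtS.bcP i).map a = g k ∧ M.obj.map a.op s = 0 := fun k => hSv (g k) (hSg k)
  choose V' b a hba hs0 using H
  obtain ⟨hk, hhk⟩ : ∃ hk : ∀ k, (Wf k).left ⟶ (V' k).left,
      hk = fun k => ((b k).left : (Wf k).left ⟶ pullback (V' k).hom i) ≫
        pullback.fst (V' k).hom i := ⟨_, rfl⟩
  have HO : ∀ k, ∃ O : (V' k).left.Opens, IsCompact (O : Set (V' k).left) ∧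
      Set.range (hk k) ⊆ (O : Set (V' k).left) := by
    intro k
    haveI : IsAffine (Wf k).left := haff k
    have hK : IsCompact (Set.range (hk k)) := isCompact_range (hk k).continuous
    obtain ⟨O, hOc, hOo, hKO, -⟩ :=
      PrespectralSpace.exists_isCompact_and_isOpen_between hK isOpen_univ (Set.subset_univ _)
    exact ⟨⟨O, hOo⟩, hOc, hKO⟩
  choose O hOc hOr using HO
  have hfst : ∀ k, ((g k).left : (Wf k).left ⟶ pullback V.hom i) ≫ pullback.fst V.hom i =
      hk k ≫ (a k).left := by
    intro k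
    have h3 : ((b k ≫ (ProEtS.bcP i).map (a k)).left : (Wf k).left ⟶ pullback V.hom i) =
        (g k).left := by rw [hba k]
    rw [← h3, hhk]
    show (((b k).left : (Wf k).left ⟶ pullback (V' k).hom i) ≫
      pullback.lift (pullback.fst (V' k).hom i ≫ (a k).left) (pullback.snd (V' k).hom i) _) ≫
        pullback.fst V.hom i = _
    rw [Category.assoc, pullback.lift_fst, Category.assoc]
  -- the part over `U`
  have hw0 : pullback.fst V.hom j ≫ V.hom =
      ((ProEtS.compP j).obj ((ProEtS.bcP j).obj V)).hom := by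
    show pullback.fst V.hom j ≫ V.hom = pullback.snd V.hom j ≫ j
    exact pullback.condition
  obtain ⟨g0, hg0⟩ : ∃ g0 : (ProEtS.compP j).obj ((ProEtS.bcP j).obj V) ⟶ V,
      g0 = MorphismProperty.Over.homMk (pullback.fst V.hom j) hw0 trivial := ⟨_, rfl⟩
  have hg0l : g0.left = pullback.fst V.hom j := by rw [hg0]; rfl
  haveI hc0 : CompactSpace ((ProEtS.compP j).obj ((ProEtS.bcP j).obj V)).left :=
    (inferInstance : CompactSpace ↥(pullback V.hom j))
  have hck : ∀ k, CompactSpace (openSub (V' k) (O k)).left := by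
    intro k
    show CompactSpace ↥(O k).toScheme
    exact isCompact_iff_compactSpace.mp (hOc k)
  have hsurj : ∀ v : V.left, v ∈ Set.range g0.left ∨
      ∃ k, v ∈ Set.range (openSubι (V' k) (O k) ≫ a k).left := by
    intro v
    by_cases hv : V.hom.base v ∈ Set.range j.base
    · left
      have hr : Set.range (pullback.fst V.hom j) = V.hom ⁻¹' Set.range j :=
        Scheme.Pullback.range_fst V.hom j
      have hv3 : v ∈ Set.range (pullback.fst V.hom j) := by
        rw [hr]
        exact hv
      rw [hg0l]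
      exact hv3
    · right
      have hv' : V.hom.base v ∈ Set.range i.base := by
        rw [hc] at hv
        exact not_not.mp hv
      have hv2 : v ∈ Set.range (pullback.fst V.hom i) := by
        rw [Scheme.Pullback.range_fst]
        exact hv'
      obtain ⟨z, hz⟩ := hv2
      obtain ⟨k, y, hy⟩ := hcov z
      refine ⟨k, ?_⟩
      have h5 : (a k).left (hk k y) = v := by
        have e1 : (hk k ≫ (a k).left) y =
            (((g k).left : (Wf k).left ⟶ pullback V.hom i) ≫ pullback.fst V.hom i) y :=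
          congrArg (fun (f : (Wf k).left ⟶ V.left) => f y) (hfst k).symm
        rw [Scheme.Hom.comp_apply, Scheme.Hom.comp_apply] at e1
        rw [e1]
        have e2 : ((g k).left : (Wf k).left ⟶ pullback V.hom i) y = z := hy
        rw [e2]
        exact hz
      have h6 : hk k y ∈ Set.range (O k).ι := by
        rw [Scheme.Opens.range_ι]
        exact hOr k ⟨y, rfl⟩
      obtain ⟨w, hw⟩ := h6
      refine ⟨w, ?_⟩
      show ((O k).ι ≫ (a k).left) w = v
      rw [Scheme.Hom.comp_apply, hw, h5]
  have hmem := optCover_mem ((ProEtS.compP j).obj ((ProEtS.bcP j).obj V)) g0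
    (fun k => openSub (V' k) (O k)) (fun k => openSubι (V' k) (O k) ≫ a k) hc0 hck hsurj
  have hsh : Presieve.IsSheaf (Scheme.ProEt.topology X)
      (M.obj ⋙ forget AddCommGrpCat.{u + 1}) :=
    (isSheaf_iff_isSheaf_of_type _ _).mp
      ((Presheaf.isSheaf_iff_isSheaf_forget _ _ (forget AddCommGrpCat.{u + 1})).mp M.property)
  refine (hsh _ hmem).isSeparatedFor.ext (fun Y f hf => ?_)
  obtain ⟨Y', h, g', ⟨o⟩, rfl⟩ := hf
  cases o with
  | none =>
    have hsub : Subsingleton (M.obj.obj (op ((ProEtS.compP j).obj ((ProEtS.bcP j).obj V)))) :=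
      subsingleton_sections_of_isZero _ _ h1 ((ProEtS.bcP j).obj V)
    have h7 : M.obj.map g0.op s = 0 := Subsingleton.elim _ _
    have hgoal : ∀ (Y0 : X.ProEt) (h' : Y0 ⟶ (ProEtS.compP j).obj ((ProEtS.bcP j).obj V)),
        M.obj.map (h' ≫ g0).op s = M.obj.map (h' ≫ g0).op 0 := by
      intro Y0 h'
      rw [op_comp, CategoryTheory.Functor.map_comp_apply, h7, map_zero, map_zero]
    exact hgoal _ h
  | some k =>
    have hgoal : ∀ (Y0 : X.ProEt) (h' : Y0 ⟶ openSub (V' k) (O k)),
        M.obj.map (h' ≫ openSubι (V' k) (O k) ≫ a k).op s =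
          M.obj.map (h' ≫ openSubι (V' k) (O k) ≫ a k).op 0 := by
      intro Y0 h'
      rw [← Category.assoc, op_comp, CategoryTheory.Functor.map_comp_apply, hs0 k, map_zero,
        map_zero]
    exact hgoal _ h

theorem isZero_of_restr_pull [ProEtS.JPCont j] [ProEtS.PCont i]
    (hc : Set.range j.base = (Set.range i.base)ᶜ)
    (M : ProEtS.AbP X) (h1 : IsZero ((ProEtS.restrP j).obj M))
    (h2 : IsZero ((ProEtS.pullP i).obj M)) : IsZero M := by
  apply isZero_of_subsingleton_sections
  intro V
  refine ⟨fun s s' => ?_⟩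
  suffices h0 : ∀ s : M.obj.obj (op V), s = 0 by rw [h0 s, h0 s']
  intro s
  obtain ⟨ι, Vs, g, hcov, hVs⟩ := H9FE.ProEtW.main7286 V
  have hsh : Presieve.IsSheaf (Scheme.ProEt.topology X)
      (M.obj ⋙ forget AddCommGrpCat.{u + 1}) :=
    (isSheaf_iff_isSheaf_of_type _ _).mp
      ((Presheaf.isSheaf_iff_isSheaf_forget _ _ (forget AddCommGrpCat.{u + 1})).mp M.property)
  refine (hsh _ hcov).isSeparatedFor.ext (fun Y f hf => ?_)
  obtain ⟨Y', h, g', ⟨k⟩, rfl⟩ := hf
  haveI := (hVs k).1
  show M.obj.map (h ≫ g k).op s = M.obj.map (h ≫ g k).op 0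
  have h7 : M.obj.map (g k).op s = 0 :=
    sections_zero_of_affine i j hc M h1 h2 (Vs k) (M.obj.map (g k).op s)
  rw [op_comp, CategoryTheory.Functor.map_comp_apply, h7, map_zero, map_zero]

end Main

theorem main726 {X Z U : Scheme.{u}} (i : Z ⟶ X) [IsClosedImmersion i]
    (j : U ⟶ X) [IsOpenImmersion j] [QuasiCompact j]
    (hc : Set.range j.base = (Set.range i.base)ᶜ) [ProEtS.JPCont j] [ProEtS.PCont i]
    (F : ProEtS.AbP X) :
    ∃ h : (ProEtS.extZeroPAdj j).counit.app F ≫ (ProEtS.pullPushAdjP i).unit.app F = 0,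
      (ShortComplex.mk _ _ h).ShortExact := by
  have hd : Disjoint (Set.range j.base) (Set.range i.base) := by
    rw [hc]
    exact disjoint_compl_left
  have h : (ProEtS.extZeroPAdj j).counit.app F ≫ (ProEtS.pullPushAdjP i).unit.app F = 0 := by
    apply ((ProEtS.extZeroPAdj j).homEquiv _ _).injective
    exact (isZero_restr_push i j hd _).eq_of_tgt _ _
  refine ⟨h, ?_⟩
  haveI := additive_pullP i
  haveI := preservesFiniteLimits_pullP i
  haveI := preservesFiniteColimits_pullP i
  haveI := preservesFiniteLimits_restrP j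
  haveI := preservesFiniteColimits_restrP j
  refine shortExact_of_jointly (ProEtS.restrP j) (ProEtS.pullP i)
    (fun M hM1 hM2 => isZero_of_restr_pull i j hc M hM1 hM2) _ ?_ ?_
  · haveI : IsIso ((ProEtS.extZeroPAdj j).unit) := H9FE.ProEtW.isIso_unit_extZeroP j
    have hiso : IsIso ((ProEtS.restrP j).map ((ProEtS.extZeroPAdj j).counit.app F)) := by
      have htri := (ProEtS.extZeroPAdj j).right_triangle_components F
      have h8 : (ProEtS.restrP j).map ((ProEtS.extZeroPAdj j).counit.app F) =
          inv ((ProEtS.extZeroPAdj j).unit.app ((ProEtS.restrP j).obj F)) :=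
        IsIso.eq_inv_of_hom_inv_id htri
      rw [h8]
      infer_instance
    exact @shortExact_of_isIso_f_of_isZero _ _ _
      ((ShortComplex.mk _ _ h).map (ProEtS.restrP j)) hiso (isZero_restr_push i j hd _)
  · have hiso : IsIso ((ProEtS.pullP i).map ((ProEtS.pullPushAdjP i).unit.app F)) := by
      have htri := (ProEtS.pullPushAdjP i).left_triangle_components F
      haveI : IsIso ((ProEtS.pullPushAdjP i).counit.app ((ProEtS.pullP i).obj F)) :=
        Groth.Agent.Lib.Helper6.ClImm.main741 i _
      have h8 : (ProEtS.pullP i).map ((ProEtS.pullPushAdjP i).unit.app F) =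
          inv ((ProEtS.pullPushAdjP i).counit.app ((ProEtS.pullP i).obj F)) :=
        IsIso.eq_inv_of_inv_hom_id htri
      rw [h8]
      infer_instance
    exact @shortExact_of_isIso_g_of_isZero _ _ _
      ((ShortComplex.mk _ _ h).map (ProEtS.pullP i)) hiso (isZero_pull_extZero i j hd _)

end Groth.Agent.Lib.Helper6.Recoll
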